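import Cfsg.Agent.Lib.Goldschmidt.Consumers.U3Sylow.Quot
import Cfsg.Agent.S1250

/-!
# A component in a group with Sylow `2`-subgroup of the type of `PSU₃(q)`

It is the only one, contains the Sylow subgroup and is `PSU₃(q)`.
-/

set_option autoImplicit false
set_option linter.style.haveILetI false

namespace CfsgLib.Gold.U3Sylow

open Subgroup
open scoped commutatorElement

universe u

/-- An automorphism of a perfect group trivial modulo the centre is trivial. -/
theorem aut_eq_one_of_perfect {L : Type*} [Group L] (hperf : commutator L = ⊤) (α : MulAut L)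
    (h : ∀ k, α k * k⁻¹ ∈ center L) : α = 1 := by
  letI cM : CommGroup (center L) :=
    { (inferInstance : Group (center L)) with
      mul_comm := fun a b => Subtype.ext (mem_center_iff.1 a.2 b).symm }
  let δ : L →* center L := MonoidHom.mk' (fun k => ⟨α k * k⁻¹, h k⟩) fun a b => Subtype.ext (by
    show α (a * b) * (a * b)⁻¹ = α a * a⁻¹ * (α b * b⁻¹)
    rw [mul_assoc (α a), mem_center_iff.1 (h b) a⁻¹, map_mul]
    group)
  refine MulEquiv.ext fun k => mul_inv_eq_one.1 (congrArg Subtype.val (show δ k = 1 from ?_))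
  exact Abelianization.commutator_subset_ker δ (hperf ▸ mem_top k)

/-- The automorphism of the quotient by the centre. -/
noncomputable def quotAut {L : Type*} [Group L] (α : MulAut L) : MulAut (L ⧸ center L) :=
  QuotientGroup.congr (center L) (center L) α (by
    ext x
    show x ∈ (center L).map α.toMonoidHom ↔ _
    rw [mem_map_equiv, mem_center_iff, mem_center_iff]
    constructor
    · intro h g
      have := congrArg α (h (α.symm g))
      rwa [map_mul, map_mul, α.apply_symm_apply, α.apply_symm_apply] at this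
    · intro h g
      refine α.injective ?_
      rw [map_mul, map_mul, α.apply_symm_apply]
      exact h (α g))

/-- Conjugation by a subgroup normalizing `L`. -/
def act {X : Type*} [Group X] (S L : Subgroup X) (hn : ∀ s ∈ S, ∀ x ∈ L, s * x * s⁻¹ ∈ L) : S →* MulAut L where
  toFun s :=
    { toFun := fun x => ⟨s * x * (s : X)⁻¹, hn s s.2 x x.2⟩
      invFun := fun x => ⟨(s : X)⁻¹ * x * s, by
        have := hn _ (inv_mem s.2) x x.2
        rwa [inv_inv] at this⟩
      left_inv := fun x => Subtype.ext (by group)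
      right_inv := fun x => Subtype.ext (by group)
      map_mul' := fun a b => Subtype.ext (by simp only [Subgroup.coe_mul]; group) }
  map_one' := MulEquiv.ext fun x => Subtype.ext (by simp)
  map_mul' s t := MulEquiv.ext fun x => Subtype.ext (by
    show ((s * t : S) : X) * x * ((s * t : S) : X)⁻¹ = s * ((t : X) * x * (t : X)⁻¹) * (s : X)⁻¹
    push_cast
    group)

theorem act_apply {X : Type*} [Group X] {S L : Subgroup X} (hn : ∀ s ∈ S, ∀ x ∈ L, s * x * s⁻¹ ∈ L) (s : S)
    (x : L) : (act S L hn s x : X) = s * x * (s : X)⁻¹ := rfl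

namespace SData

variable {X : Type u} [Group X] {q : ℕ} {S : Sylow 2 X} {Z : Subgroup X}

theorem closed (h : SData q S Z) : Cfsg.IsStronglyClosed Z (S : Subgroup X) :=
  ⟨h.le, fun x hx g hg => (h.mem_iff _ hg).2 (by
    rw [show g * x * g⁻¹ * (g * x * g⁻¹) = g * (x * x) * g⁻¹ by group, (h.mem_iff x (h.le hx)).1 hx]
    group)⟩

theorem sq_one (h : SData q S Z) {v : X} (hv : v ∈ Z) : v * v = 1 := (h.mem_iff v (h.le hv)).1 hv

theorem exists_mem_ne_one (h : SData q S Z) : ∃ v ∈ Z, v ≠ 1 := by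
  refine Z.bot_or_exists_ne_one.resolve_left fun e => ?_
  have := h.cardZ
  rw [e, card_bot] at this
  have := h.four_le
  omega

theorem exists_notMem [Finite X] (h : SData q S Z) : ∃ x ∈ (S : Subgroup X), x ∉ Z := by
  by_contra hc
  push Not at hc
  have h1 := card_le_of_le (hc : (S : Subgroup X) ≤ Z)
  rw [h.card, h.cardZ] at h1
  have h4 := h.four_le
  have h5 : q ^ 3 = q * (q * q) := by ring
  have h6 : 16 ≤ q * q := Nat.mul_le_mul h4 h4
  have h7 : q * 16 ≤ q * (q * q) := Nat.mul_le_mul_left q h6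
  omega

variable [Finite X]

theorem sylowL (hO : Cfsg.pPrimeCore 2 X = ⊥) (S : Sylow 2 X) {L : Subgroup X} (hL : Cfsg.IsComponent L) :
    ∃ T : Sylow 2 L, (∀ x : L, x ∈ (T : Subgroup L) ↔ (x : X) ∈ (S : Subgroup X)) ∧
      2 ∣ Nat.card (T : Subgroup L) := by
  haveI := Fact.mk Nat.prime_two
  obtain ⟨T, hT⟩ := CfsgLib.LS.sylow_inf_subnormal S hL.1
  refine ⟨T, fun x => ⟨fun hx => ?_, fun hx => ?_⟩,
    T.dvd_card_of_dvd_card (CfsgLib.Coprime.dvd_card_of_isComponent hO hL)⟩
  · exact (hT ▸ mem_map_of_mem L.subtype hx : (x : X) ∈ (S : Subgroup X) ⊓ L).1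
  · obtain ⟨y, hy, e⟩ := hT.ge (show (x : X) ∈ (S : Subgroup X) ⊓ L from ⟨hx, x.2⟩)
    rwa [← Subtype.ext (e : (y : X) = x)]

theorem center_le (hO : Cfsg.pPrimeCore 2 X = ⊥) (S : Sylow 2 X) {L : Subgroup X} (hL : Cfsg.IsComponent L)
    {z : L} (hz : z ∈ center L) : (z : X) ∈ (S : Subgroup X) := by
  haveI := Fact.mk Nat.prime_two
  refine CfsgLib.Coprime.pCore_le_sylow S ?_
  rw [← CfsgLib.Coprime.fitting_eq_pCore_of_pPrimeCore_eq_bot hO]
  letI cM : CommGroup (center L) :=
    { (inferInstance : Group (center L)) with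
      mul_comm := fun a b => Subtype.ext (mem_center_iff.1 a.2 b).symm }
  haveI : Group.IsNilpotent (center L) := CommGroup.isNilpotent (G := center L)
  exact CfsgLib.Coprime.le_fitting_of_isSubnormal
    ((CfsgLib.Coprime.isSubnormal_map_subtype_iff hL.1 _).2 (Normal.isSubnormal inferInstance))
    (Group.nilpotent_of_mulEquiv ((center L).equivMapOfInjective L.subtype L.subtype_injective))
    (mem_map_of_mem L.subtype hz)

theorem center_eq_bot_of_comm (hO : Cfsg.pPrimeCore 2 X = ⊥) {L : Subgroup X} (hL : Cfsg.IsComponent L)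
    {T : Sylow 2 L} (hT : ∀ x : L, x ∈ (T : Subgroup L) ↔ (x : X) ∈ (S : Subgroup X))
    (hab : ∀ a ∈ (T : Subgroup L), ∀ b ∈ (T : Subgroup L), a * b = b * a) : center L = ⊥ := by
  haveI := Fact.mk Nat.prime_two
  haveI : IsMulCommutative (T : Subgroup L) := isMulCommutative_iff.2 fun a b => Subtype.ext (hab a a.2 b b.2)
  refine (Subgroup.eq_bot_iff_forall _).2 fun z hz => ?_
  haveI := hL.2.1
  exact CfsgLib.Fusion.central_inf_commutator_eq_one (T : Subgroup L) T.card_coprime_index hz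
    ((Group.IsPerfect.commutator_eq_top (G := L)).symm ▸ mem_top z) ((hT z).2 (center_le hO S hL hz))

/-- The Sylow subgroup normalizes every component. -/
theorem normalizes (h : SData q S Z) (hO : Cfsg.pPrimeCore 2 X = ⊥) {L : Subgroup X} (hL : Cfsg.IsComponent L) :
    ∀ s ∈ (S : Subgroup X), ∀ x ∈ L, s * x * s⁻¹ ∈ L := by
  haveI := Fact.mk Nat.prime_two
  intro s hs
  suffices hn : s ∈ normalizer (L : Set X) from fun x hx => (mem_normalizer_iff.1 hn x).1 hx
  rw [← CfsgLib.Coprime.conjBy_eq_self_iff]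
  by_contra hne
  have hc := CfsgLib.Coprime.commutator_eq_bot_iff_forall.1
    (CfsgLib.Coprime.components_commute
      (CfsgLib.Coprime.isComponent_map_equiv (MulAut.conj s) hL : Cfsg.IsComponent (CfsgLib.Coprime.conjBy s L))
      hL hne)
  have hmem : ∀ u : L, s * (u : X) * s⁻¹ ∈ CfsgLib.Coprime.conjBy s L := fun u => by
    refine CfsgLib.Coprime.mem_conjBy.2 ?_
    rw [show s⁻¹ * (s * (u : X) * s⁻¹) * s = u by group]
    exact u.2
  obtain ⟨T, hT, hT2⟩ := sylowL hO S hL
  by_cases hab : ∀ a ∈ (T : Subgroup L), ∀ b ∈ (T : Subgroup L), a * b = b * a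
  · obtain ⟨t, ht⟩ := exists_prime_orderOf_dvd_card' (G := (T : Subgroup L)) 2 hT2
    have ht1 : (t : L) ≠ 1 := fun e => by
      rw [show t = 1 from Subtype.ext e, orderOf_one] at ht
      omega
    have htt : ((t : L) : X) * ((t : L) : X) = 1 := by
      have e : t ^ 2 = 1 := orderOf_dvd_iff_pow_eq_one.1 ht.dvd
      rw [sq] at e
      exact congrArg (fun y : (T : Subgroup L) => ((y : L) : X)) e
    have htZ : ((t : L) : X) ∈ Z := (h.mem_iff _ ((hT _).1 t.2)).2 htt
    refine ht1 (mem_bot.1 ((center_eq_bot_of_comm hO hL hT hab).le (mem_center_iff.2 fun k => Subtype.ext ?_)))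
    have h1 := hc _ (hmem t) k k.2
    rw [show s * ((t : L) : X) * s⁻¹ = (t : L) by rw [← h.central _ htZ s hs, mul_inv_cancel_right]] at h1
    exact h1.symm
  · push Not at hab
    obtain ⟨u, hu, w, hw, hne'⟩ := hab
    have hu' := (hT u).1 hu
    have hw' := (hT w).1 hw
    refine hne' (Subtype.ext ?_)
    have h1 := hc _ (hmem u) w w.2
    rw [show s * (u : X) * s⁻¹ = ⁅s, (u : X)⁆ * u by rw [commutatorElement_def]; group,
      mul_assoc, ← mul_assoc (w : X), ← h.central _ (h.derived s hs _ hu') (w : X) hw', mul_assoc] at h1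
    exact mul_left_cancel h1

/-- A component is not covered by `Z` in its Sylow subgroup. -/
theorem exists_notMem_comp (h : SData q S Z) (hO : Cfsg.pPrimeCore 2 X = ⊥) {L : Subgroup X}
    (hL : Cfsg.IsComponent L) : ∃ x ∈ L, x ∈ (S : Subgroup X) ∧ x ∉ Z := by
  haveI := Fact.mk Nat.prime_two
  by_contra hall
  push Not at hall
  obtain ⟨T, hT, hT2⟩ := sylowL hO S hL
  have hTZ : ∀ t ∈ (T : Subgroup L), (t : X) ∈ Z := fun t ht => hall _ t.2 ((hT t).1 ht)
  have hab : ∀ a ∈ (T : Subgroup L), ∀ b ∈ (T : Subgroup L), a * b = b * a := fun a ha b hb =>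
    Subtype.ext (h.central _ (hTZ a ha) _ ((hT b).1 hb))
  have hZc := center_eq_bot_of_comm hO hL hT hab
  have hcore : Cfsg.pPrimeCore 2 L = ⊥ := by
    have h1 : (Cfsg.pPrimeCore 2 L).map L.subtype ≤ ⊥ := by
      rw [← hO]
      refine CfsgLib.Coprime.le_pPrimeCore_of_isSubnormal Nat.prime_two
        ((CfsgLib.Coprime.isSubnormal_map_subtype_iff hL.1 _).2 (Normal.isSubnormal inferInstance)) ?_
      rw [card_map_of_injective L.subtype_injective]
      exact CfsgLib.Coprime.pPrimeCore_coprime Nat.prime_two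
    exact (map_eq_bot_iff_of_injective _ L.subtype_injective).1 (le_bot_iff.1 h1)
  set φ := act (S : Subgroup X) L (h.normalizes hO hL) with hφ
  have hinner : ∀ s : (S : Subgroup X), ∃ g ∈ (T : Subgroup L), φ s = MulAut.conj g := by
    intro s
    obtain ⟨k, hk⟩ := S.2 s
    have hfix : ∀ x ∈ (T : Subgroup L), φ s x = x := fun x hx => Subtype.ext (by
      rw [hφ, act_apply, ← h.central _ (hTZ x hx) _ s.2, mul_inv_cancel_right])
    have hk' : φ s ^ 2 ^ k = 1 := by rw [← map_pow, hk, map_one]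
    obtain ⟨j, -, hj⟩ := (Nat.dvd_prime_pow Nat.prime_two).1 (orderOf_dvd_of_pow_eq_one hk')
    obtain ⟨g, hg⟩ := CfsgLib.Fusion.isInner_of_fixes_abelian_sylow hZc hcore T
      (isMulCommutative_iff.2 fun a b => Subtype.ext (hab a a.2 b b.2)) (φ s) hj hfix
    have e : φ s = MulAut.conj g := MulEquiv.ext fun x => by rw [hg, MulAut.conj_apply]
    refine ⟨g, mem_sylow_of_centralizes T (k := k) ?_ (fun r hr => (hg r).symm.trans (hfix r hr)), e⟩
    refine mem_bot.1 (hZc ▸ mem_center_iff.2 fun x => ?_)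
    have h2 : MulAut.conj (g ^ 2 ^ k) x = x := by rw [map_pow, ← e, hk']; rfl
    rw [MulAut.conj_apply, mul_inv_eq_iff_eq_mul] at h2
    exact h2.symm
  obtain ⟨x, hx, hxZ⟩ := h.exists_notMem
  obtain ⟨t, ht⟩ := exists_prime_orderOf_dvd_card' (G := (T : Subgroup L)) 2 hT2
  have ht1 : (t : L) ≠ 1 := fun e => by
    rw [show t = 1 from Subtype.ext e, orderOf_one] at ht
    omega
  refine ht1 (mem_bot.1 (hZc ▸ mem_center_iff.2 fun y => ?_))
  obtain ⟨b, hb, hv⟩ := h.span x hx hxZ _ (hTZ t t.2)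
  obtain ⟨g₁, hg₁, e₁⟩ := hinner ⟨x, hx⟩
  obtain ⟨g₂, hg₂, e₂⟩ := hinner ⟨b, hb⟩
  have h1 : φ ⁅(⟨x, hx⟩ : (S : Subgroup X)), ⟨b, hb⟩⁆ = 1 := by
    rw [map_commutatorElement, e₁, e₂, ← map_commutatorElement,
      commutatorElement_eq_one_iff_mul_comm.2 (hab g₁ hg₁ g₂ hg₂), map_one]
  have h2 : ⁅x, b⁆ * (y : X) * ⁅x, b⁆⁻¹ = y := congrArg Subtype.val (DFunLike.congr_fun h1 y)
  rw [hv, mul_inv_eq_iff_eq_mul] at h2
  exact Subtype.ext h2.symm

theorem le_comp (h : SData q S Z) (hO : Cfsg.pPrimeCore 2 X = ⊥) {L : Subgroup X} (hL : Cfsg.IsComponent L) :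
    Z ≤ L := by
  obtain ⟨x, hxL, hx, hxZ⟩ := h.exists_notMem_comp hO hL
  intro v hv
  obtain ⟨t, ht, rfl⟩ := h.span x hx hxZ v hv
  rw [show ⁅x, t⁆ = x * (t * x⁻¹ * t⁻¹) by rw [commutatorElement_def]; group]
  exact mul_mem hxL (h.normalizes hO hL t ht _ (inv_mem hxL))

theorem quot_noncomm {L : Subgroup X} (hL : Cfsg.IsComponent L) : ¬ IsMulCommutative (L ⧸ center L) := fun hc => by
  haveI : Group.IsSolvable (center L) := CfsgLib.Coprime.isSolvable_of_isMulCommutative inferInstance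
  haveI : Group.IsSolvable (L ⧸ center L) := Group.isSolvable_of_comm fun a b => isMulCommutative_iff.1 hc a b
  haveI : Group.IsSolvable L :=
    Group.isSolvable_of_ker_le_range (center L).subtype (QuotientGroup.mk' (center L)) (by simp)
  exact CfsgLib.Coprime.not_isSolvable_of_isComponent hL inferInstance

/-- `Z` is not central in a component. -/
theorem exists_noncentral (h : SData q S Z) (hO : Cfsg.pPrimeCore 2 X = ⊥) {L : Subgroup X}
    (hL : Cfsg.IsComponent L) : ∃ v : L, (v : X) ∈ Z ∧ v ∉ center L := by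
  haveI := Fact.mk Nat.prime_two
  by_contra hall
  push Not at hall
  obtain ⟨T, hT, -⟩ := sylowL hO S hL
  have hsq : ∀ t ∈ (T : Subgroup L), t * t ∈ center L := fun t ht => hall _ (h.sq_mem _ ((hT t).1 ht))
  have hcomm : ∀ a ∈ (T : Subgroup L), ∀ b ∈ (T : Subgroup L), ⁅a, b⁆ ∈ center L := fun a ha b hb =>
    hall _ (h.derived _ ((hT a).1 ha) _ ((hT b).1 hb))
  obtain ⟨z, hz, hle⟩ := derived_le hL.2.2 (quot_noncomm hL) T hsq hcomm
  have h2 : Nat.card (zpowers z) ≤ 2 := by
    rw [Nat.card_zpowers]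
    exact Nat.le_of_dvd two_pos (orderOf_dvd_of_pow_eq_one (by rw [sq, hz]))
  have h3 : Z.subgroupOf L ≤ zpowers z := fun v hv => by
    haveI := hL.2.1
    exact hle (Struct.mem_derived_of_central (Group.IsPerfect.commutator_eq_top (G := L)) T
      (hall v hv) ((hT v).2 (h.le hv)))
  have h4 := (card_le_of_le h3).trans h2
  rw [Nat.card_congr (subgroupOfEquivOfLe (h.le_comp hO hL)).toEquiv, h.cardZ] at h4
  have := h.four_le
  omega

/-- The component contains the Sylow subgroup, is normal and is `PSU₃(q)`. -/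
theorem component_main (h : SData q S Z) (hO : Cfsg.pPrimeCore 2 X = ⊥) (hI : Struct.SimpleForm.{u})
    {L : Subgroup X} (hL : Cfsg.IsComponent L) :
    L.Normal ∧ Odd L.index ∧ ∃ (F : Type) (_ : Field F) (_ : Fintype F),
      Fintype.card F = q ^ 2 ∧ Nonempty (L ≃* Cfsg.PSU 3 F q) := by
  haveI := Fact.mk Nat.prime_two
  haveI := hL.2.2
  obtain ⟨v₀, hv₀, hv₀c⟩ := h.exists_noncentral hO hL
  obtain ⟨T, hT, -⟩ := sylowL hO S hL
  have hZL := h.le_comp hO hL
  have hnorm : L.Normal := ⟨fun x hx g => by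
    suffices hn : g ∈ normalizer (L : Set X) from (mem_normalizer_iff.1 hn x).1 hx
    rw [← CfsgLib.Coprime.conjBy_eq_self_iff]
    by_contra hne
    have hL' : Cfsg.IsComponent (CfsgLib.Coprime.conjBy g L) :=
      CfsgLib.Coprime.isComponent_map_equiv (MulAut.conj g) hL
    have hc := CfsgLib.Coprime.commutator_eq_bot_iff_forall.1 (CfsgLib.Coprime.components_commute hL' hL hne)
    exact hv₀c (mem_center_iff.2 fun k => Subtype.ext (hc _ (h.le_comp hO hL' hv₀) k k.2).symm)⟩
  set π := QuotientGroup.mk' (center L) with hπ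
  have hπs : Function.Surjective π := QuotientGroup.mk'_surjective _
  let Tq : Sylow 2 (L ⧸ center L) := T.mapSurjective hπs
  have hTq : (Tq : Subgroup (L ⧸ center L)) = (T : Subgroup L).map π := Sylow.coe_mapSurjective hπs T
  have hcl : Cfsg.IsStronglyClosed (Z.subgroupOf L) (T : Subgroup L) :=
    ⟨fun b hb => (hT b).2 (h.le hb), fun b hb g hg => h.closed.2 _ hb (g : X) ((hT _).1 hg)⟩
  have hclq := Cfsg.Agent.S1250.result T (Z.subgroupOf L) hcl (center L)
  rw [← hπ, ← hTq] at hclq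
  set Zq := (Z.subgroupOf L).map π with hZq
  have hZne : Zq ≠ ⊥ := fun e => hv₀c ((QuotientGroup.eq_one_iff _).1
    ((Subgroup.eq_bot_iff_forall _).1 e _ (mem_map_of_mem π (mem_subgroupOf.2 hv₀))))
  have hZsq : ∀ b ∈ Zq, b * b = 1 := by
    rintro _ ⟨b, hb, rfl⟩
    rw [← map_mul, show b * b = 1 from Subtype.ext (h.sq_one hb), map_one]
  have hZcomm : IsMulCommutative Zq := isMulCommutative_iff.2 fun a b => Subtype.ext (by
    obtain ⟨a', ha', ea⟩ := a.2
    obtain ⟨b', hb', eb⟩ := b.2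
    show (a : L ⧸ center L) * b = b * a
    rw [← ea, ← eb, ← map_mul, ← map_mul,
      show a' * b' = b' * a' from Subtype.ext (h.central _ ha' _ (h.le hb'))])
  have hform : Form (L ⧸ center L) := hI _ inferInstance (quot_noncomm hL) Tq Zq hZne hZcomm hclq
  have hmem := RankOne.eq_omega inferInstance hform Tq hZne hZsq hclq
  -- the Sylow subgroup of the simple quotient is not abelian
  have hnab : ¬ IsMulCommutative (Tq : Subgroup (L ⧸ center L)) := by
    intro hab
    have hc : CfsgLib.Walter.CentForm (L ⧸ center L) :=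
      CfsgLib.Walter.classified _ inferInstance (quot_noncomm hL) fun R a b => by
        let e := Sylow.equiv R Tq
        exact e.injective (by rw [map_mul, map_mul]; exact isMulCommutative_iff.1 hab (e a) (e b))
    have hel := (CfsgLib.Walter.Rank.sylow_elementary inferInstance hc Tq).2
    have hcov : ∀ t ∈ (T : Subgroup L), ∃ v : L, (v : X) ∈ Z ∧ v⁻¹ * t ∈ center L := fun t ht => by
      have h1 : π t ∈ (Tq : Subgroup (L ⧸ center L)) := hTq.ge (mem_map_of_mem π ht)
      obtain ⟨v, hv, e⟩ := (hmem (π t)).2 ⟨h1, hel _ h1⟩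
      exact ⟨v, hv, QuotientGroup.eq.1 e⟩
    have habT : ∀ a ∈ (T : Subgroup L), ∀ b ∈ (T : Subgroup L), a * b = b * a := fun a ha b hb => by
      obtain ⟨v, hv, hva⟩ := hcov a ha
      have c1 : Commute v b := Subtype.ext (h.central _ hv _ ((hT b).1 hb))
      have c2 : Commute (v⁻¹ * a) b := (mem_center_iff.1 hva b).symm
      have := (c1.mul_left c2).eq
      rwa [mul_inv_cancel_left] at this
    obtain ⟨x, hxL, hx, hxZ⟩ := h.exists_notMem_comp hO hL
    obtain ⟨v, hv, hvx⟩ := hcov ⟨x, hxL⟩ ((hT ⟨x, hxL⟩).2 hx)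
    rw [center_eq_bot_of_comm hO hL hT habT, Subgroup.mem_bot, inv_mul_eq_one] at hvx
    refine hxZ ?_
    rw [hvx] at hv
    exact hv
  have hiso : IsoFamilies (L ⧸ center L) := hform.resolve_left fun hc => hnab (isMulCommutative_iff.2 fun a b =>
    Struct.abTwo_of_centForm inferInstance hc Tq a b)
  have hR := Phi.rankOneFacts (L ⧸ center L) inferInstance hiso Tq hnab
  -- the Sylow subgroup lies in `L`
  have hSL : (S : Subgroup X) ≤ L := by
    intro s hs
    set φ := act (S : Subgroup X) L (h.normalizes hO hL) with hφ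
    have hβ : ∀ (r : (S : Subgroup X)) (k : L), quotAut (φ r) (π k) = π (φ r k) := fun r k => rfl
    obtain ⟨x, hx, hxe⟩ := hR.inner (quotAut (φ ⟨s, hs⟩)) (fun y hy hyy => by
        obtain ⟨v, hv, rfl⟩ := (hmem y).2 ⟨hy, hyy⟩
        rw [hβ]
        congr 1
        exact Subtype.ext (by rw [hφ, act_apply]; show s * (v : X) * s⁻¹ = v
                              rw [← h.central (v : X) hv s hs, mul_inv_cancel_right]))
      (fun y hy => by
        rw [hTq] at hy
        obtain ⟨t, ht, rfl⟩ := hy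
        rw [hβ, ← map_inv, ← map_mul]
        refine (hmem _).1 (mem_map_of_mem π (mem_subgroupOf.2 ?_))
        push_cast
        rw [hφ, act_apply]
        exact h.derived s hs _ ((hT t).1 ht))
    rw [hTq] at hx
    obtain ⟨t, ht, rfl⟩ := hx
    set c : X := (t : X)⁻¹ * s with hc
    have hcS : c ∈ (S : Subgroup X) := mul_mem (inv_mem ((hT t).1 ht)) hs
    have hc1 : φ ⟨c, hcS⟩ = 1 := by
      haveI := hL.2.1
      refine aut_eq_one_of_perfect (Group.IsPerfect.commutator_eq_top (G := L)) _ fun k => ?_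
      refine (QuotientGroup.eq_one_iff _).1 ?_
      show π (φ ⟨c, hcS⟩ k * k⁻¹) = 1
      have e1 : φ ⟨c, hcS⟩ k = t⁻¹ * φ ⟨s, hs⟩ k * t := Subtype.ext (by
        push_cast
        rw [hφ, act_apply, act_apply]
        show c * (k : X) * c⁻¹ = _
        rw [hc]; group)
      have e2 : π (φ ⟨s, hs⟩ k) = π t * π k * (π t)⁻¹ := by rw [← hβ, hxe, MulAut.conj_apply]
      rw [map_mul, e1, map_mul, map_mul, e2, map_inv, map_inv]
      group
    have hcc : ∀ k : L, c * (k : X) * c⁻¹ = k := fun k => congrArg Subtype.val (DFunLike.congr_fun hc1 k)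
    have hcZ : c ∈ Z := by
      by_contra hcZ
      refine hv₀c (mem_center_iff.2 fun k => Subtype.ext ?_)
      obtain ⟨r, hr, e⟩ := h.span c hcS hcZ _ hv₀
      have hk' := h.normalizes hO hL r⁻¹ (inv_mem hr) k k.2
      rw [inv_inv] at hk'
      have ck : Commute c (k : X) := mul_inv_eq_iff_eq_mul.1 (hcc k)
      have ck' : Commute c (r⁻¹ * k * r) := mul_inv_eq_iff_eq_mul.1 (hcc ⟨_, hk'⟩)
      show (k : X) * v₀ = v₀ * k
      rw [← e, commutatorElement_def]
      calc (k : X) * (c * r * c⁻¹ * r⁻¹) = (k : X) * c * r * c⁻¹ * r⁻¹ := by group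
        _ = c * (k : X) * r * c⁻¹ * r⁻¹ := by rw [← ck.eq]
        _ = c * r * ((r⁻¹ * k * r) * c⁻¹) * r⁻¹ := by group
        _ = c * r * (c⁻¹ * (r⁻¹ * k * r)) * r⁻¹ := by rw [← ck'.inv_left.eq]
        _ = c * r * c⁻¹ * r⁻¹ * k := by group
    have := mul_mem t.2 (hZL hcZ)
    rwa [hc, mul_inv_cancel_left] at this
  have hindex : Odd L.index := by
    refine Nat.odd_iff.2 (Nat.two_dvd_ne_zero.1 fun h2 => ?_)
    exact S.not_dvd_index (h2.trans (index_dvd_of_le hSL))
  -- orders
  have hcZ : center L ≤ Z.subgroupOf L := fun z hz => by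
    by_contra hzZ
    obtain ⟨v, hv, hv1⟩ := h.exists_mem_ne_one
    obtain ⟨r, hr, e⟩ := h.span z (center_le hO S hL hz) hzZ v hv
    refine hv1 (e.symm.trans (commutatorElement_eq_one_iff_mul_comm.2 ?_))
    exact congrArg Subtype.val (mem_center_iff.1 hz ⟨r, hSL hr⟩).symm
  have hcT : center L ≤ (T : Subgroup L) := fun z hz => (hT z).2 (center_le hO S hL hz)
  have hcardT : Nat.card (T : Subgroup L) = q ^ 3 := by
    rw [show (T : Subgroup L) = (S : Subgroup X).subgroupOf L from Subgroup.ext fun x => hT x,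
      Nat.card_congr (subgroupOfEquivOfLe hSL).toEquiv, h.card]
  have hcardZ : Nat.card (Z.subgroupOf L) = q := by
    rw [Nat.card_congr (subgroupOfEquivOfLe hZL).toEquiv, h.cardZ]
  have k1 := card_map_mul π (T : Subgroup L) (by rw [hπ, QuotientGroup.ker_mk']; exact hcT)
  have k2 := card_map_mul π (Z.subgroupOf L) (by rw [hπ, QuotientGroup.ker_mk']; exact hcZ)
  rw [← hTq, hcardT] at k1
  rw [← hZq, hcardZ] at k2
  have hpos : 0 < Nat.card π.ker := Nat.card_pos
  have hle : Nat.card Zq ≤ q := k2 ▸ Nat.le_mul_of_pos_right _ hpos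
  have hcard : Nat.card (Tq : Subgroup (L ⧸ center L)) = q ^ 2 * Nat.card Zq :=
    Nat.eq_of_mul_eq_mul_right hpos (by rw [k1, mul_assoc, k2]; ring)
  have h4 := h.four_le
  obtain ⟨F, iF, iF', hF, hZq', ⟨f⟩⟩ := iso_psu_of_card hiso Tq hnab (by omega) Zq hmem hle hcard
  refine ⟨hnorm, hindex, F, iF, iF', hF, ⟨?_⟩⟩
  have hker : center L = ⊥ := by
    refine Subgroup.eq_bot_of_card_eq _ ?_
    rw [hZq', hπ, QuotientGroup.ker_mk'] at k2
    exact Nat.eq_of_mul_eq_mul_left (n := q) (by omega) (k2.trans (mul_one q).symm)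
  exact ((QuotientGroup.quotientMulEquivOfEq hker).trans QuotientGroup.quotientBot).symm.trans f

end SData

end CfsgLib.Gold.U3Sylow
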