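import Cfsg.Agent.Lib.Goldschmidt.RankOne.SpanUnitary
import Cfsg.Agent.Lib.Coprime.Core

/-!
# A Sylow `2`-subgroup of the type of `PSU₃(2^n)`
-/

set_option autoImplicit false
set_option linter.style.haveILetI false

namespace CfsgLib.Gold.U3Sylow

open Subgroup
open scoped commutatorElement

universe u v

/-- What is used of the Sylow subgroup: `Z` is its centre and consists of its elements of order at most two,
squares and commutators lie in `Z`, and any element off `Z` has all of `Z` as commutators. -/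
structure SData {X : Type u} [Group X] (q : ℕ) (S : Sylow 2 X) (Z : Subgroup X) : Prop where
  four_le : 4 ≤ q
  le : Z ≤ (S : Subgroup X)
  card : Nat.card (S : Subgroup X) = q ^ 3
  cardZ : Nat.card Z = q
  mem_iff : ∀ x ∈ (S : Subgroup X), x ∈ Z ↔ x * x = 1
  central : ∀ z ∈ Z, ∀ s ∈ (S : Subgroup X), z * s = s * z
  derived : ∀ a ∈ (S : Subgroup X), ∀ b ∈ (S : Subgroup X), ⁅a, b⁆ ∈ Z
  sq_mem : ∀ x ∈ (S : Subgroup X), x * x ∈ Z
  span : ∀ x ∈ (S : Subgroup X), x ∉ Z → ∀ v ∈ Z, ∃ t ∈ (S : Subgroup X), ⁅x, t⁆ = v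

theorem exists_data {X : Type u} [Group X] [Finite X] {F : Type v} [Field F] [Fintype F] {n : ℕ} (hn : 2 ≤ n)
    (hF : Fintype.card F = (2 ^ n) ^ 2) (S : Sylow 2 X) (P : Sylow 2 (Cfsg.PSU 3 F (2 ^ n)))
    (e : ↥(S : Subgroup X) ≃* ↥(P : Subgroup (Cfsg.PSU 3 F (2 ^ n)))) :
    ∃ Z : Subgroup X, SData (2 ^ n) S Z := by
  haveI := Fact.mk Nat.prime_two
  haveI : CharP F 2 := charP_of_card_eq_prime_pow (f := n * 2) (by rw [hF, ← pow_mul])
  obtain ⟨U₀, -⟩ := CfsgLib.SU.unital_sylow_psu (n := n) (by omega) hF P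
  let U := U₀.congr e
  have hF' : Nat.card F = (2 ^ n) ^ 2 := by rw [Nat.card_eq_fintype_card, hF]
  refine ⟨(center ↥(S : Subgroup X)).map (S : Subgroup X).subtype, ?_⟩
  set Z := (center ↥(S : Subgroup X)).map (S : Subgroup X).subtype
  have hmem : ∀ (x : X) (hx : x ∈ (S : Subgroup X)), x ∈ Z ↔ U.pi ⟨x, hx⟩ = 0 := fun x hx => by
    refine Iff.trans ⟨?_, fun h => ⟨⟨x, hx⟩, h, rfl⟩⟩ U.mem_center_iff
    rintro ⟨y, hy, e'⟩
    rwa [← (Subtype.ext e' : y = ⟨x, hx⟩)]
  exact
    { four_le := by calc 4 = 2 ^ 2 := rfl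
        _ ≤ 2 ^ n := Nat.pow_le_pow_right (by norm_num) hn
      le := map_subtype_le _
      card := U.card_eq hF'
      cardZ := by rw [card_map_of_injective (subtype_injective _)]; exact U.card_center_eq hF'
      mem_iff := fun x hx => by
        rw [hmem x hx, ← U.mul_self_eq_one_iff]
        exact ⟨fun h => congrArg Subtype.val h, fun h => Subtype.ext h⟩
      central := by
        rintro _ ⟨z, hz, rfl⟩ s hs
        exact congrArg Subtype.val (mem_center_iff.1 hz ⟨s, hs⟩).symm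
      derived := fun a ha b hb =>
        (hmem _ (mul_mem (mul_mem (mul_mem ha hb) (inv_mem ha)) (inv_mem hb))).2
          (U.mem_commutator_iff.1 (by
            rw [_root_.commutator_def]
            exact commutator_mem_commutator (mem_top (⟨a, ha⟩ : ↥(S : Subgroup X))) (mem_top ⟨b, hb⟩)))
      sq_mem := fun x hx => (hmem _ (mul_mem hx hx)).2 (U.pi_mul_self ⟨x, hx⟩)
      span := fun x hx hxZ v hv => by
        obtain ⟨v', hv', rfl⟩ := hv
        obtain ⟨t, ht⟩ := CfsgLib.Gold.RankOne.exists_commutator U (x := ⟨x, hx⟩) (v := v')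
          (fun e' => hxZ ((hmem x hx).2 (U.mul_self_eq_one_iff.1 e')))
          (U.mul_self_eq_one_iff.2 (U.mem_center_iff.1 hv'))
        exact ⟨t, t.2, congrArg Subtype.val ht⟩ }

end CfsgLib.Gold.U3Sylow
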