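import Mathlib.Algebra.Group.End
import Mathlib.GroupTheory.OrderOfElement
import Mathlib.Tactic.Group

/-!
# Forms invariant under a transitive automorphism

A bimultiplicative form on an elementary group of exponent two which is invariant under an automorphism whose
powers are transitive on the nontrivial elements takes at most two values, unless it is degenerate and then
trivial.
-/

set_option autoImplicit false

namespace CfsgLib.Gold.U3Sylow

variable {V M : Type*} [CommGroup V] [CommGroup M] {f : V → V → M} {τ : MulAut V}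

theorem inv_pow_left (hτ : ∀ a b, f (τ a) (τ b) = f a b) (i : ℕ) (a b : V) :
    f ((τ ^ i) a) ((τ ^ i) b) = f a b := by
  induction i with
  | zero => rfl
  | succ i ih => rw [pow_succ', MulAut.mul_apply, MulAut.mul_apply, hτ, ih]

/-- An element in the radical kills the form. -/
theorem trivial_of_radical (hτ : ∀ a b, f (τ a) (τ b) = f a b) (hf0 : ∀ a, f a 1 = 1)
    (htr : ∀ a b : V, a ≠ 1 → b ≠ 1 → ∃ i : ℕ, (τ ^ i) a = b) {v : V} (hv : v ≠ 1)
    (hrad : ∀ a, f a v = 1) : ∀ a b, f a b = 1 := by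
  intro a b
  by_cases hb : b = 1
  · rw [hb, hf0]
  obtain ⟨i, rfl⟩ := htr v b hv hb
  obtain ⟨a', rfl⟩ := (τ ^ i).surjective a
  rw [inv_pow_left hτ, hrad]

theorem two_values (hl : ∀ a b c, f (a * b) c = f a c * f b c) (hr : ∀ a b c, f a (b * c) = f a b * f a c)
    (hd : ∀ a, f a a = 1) (hsq : ∀ v : V, v * v = 1) (hτ : ∀ a b, f (τ a) (τ b) = f a b)
    (htr : ∀ a b : V, a ≠ 1 → b ≠ 1 → ∃ i : ℕ, (τ ^ i) a = b) :
    ∃ z : M, ∀ a b, f a b = 1 ∨ f a b = z := by
  classical
  by_cases htriv : ∀ a b, f a b = 1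
  · exact ⟨1, fun a b => Or.inl (htriv a b)⟩
  push Not at htriv
  obtain ⟨x, y₀, hxy⟩ := htriv
  have hf0 : ∀ a, f a 1 = 1 := fun a => by
    have := hr a 1 1
    rwa [mul_one, left_eq_mul] at this
  have hf0' : ∀ a, f 1 a = 1 := fun a => by
    have := hl 1 1 a
    rwa [mul_one, left_eq_mul] at this
  have hnd : ∀ b, (∀ a, f a b = 1) → b = 1 := fun b hb => by
    by_contra hb1
    exact hxy (trivial_of_radical hτ hf0 htr hb1 hb x y₀)
  have hx : x ≠ 1 := fun e => hxy (by rw [e, hf0'])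
  have hinv : ∀ v : V, v⁻¹ = v := fun v => inv_eq_of_mul_eq_one_right (hsq v)
  have hcomm : ∀ (i j : ℕ) (v : V), (τ ^ i) ((τ ^ j) v) = (τ ^ j) ((τ ^ i) v) := fun i j v => by
    rw [← MulAut.mul_apply, ← MulAut.mul_apply, ← pow_add, ← pow_add, add_comm]
  have heq : ∀ b b' : V, (∀ a, f a b = f a b') → b = b' := fun b b' h => by
    refine mul_inv_eq_one.1 (hnd _ fun a => ?_)
    have h0 := hr a (b * b'⁻¹) b'
    rw [inv_mul_cancel_right, h a] at h0
    exact right_eq_mul.1 h0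
  -- a power moving `x` satisfies `σ² + σ + 1 = 0`
  have hkey : ∀ i : ℕ, (τ ^ i) x ≠ x → (τ ^ i) ((τ ^ i) x) = (τ ^ i) x * x := by
    intro i hi
    have hne : x * (τ ^ i) x ≠ 1 := fun e => hi (by
      have := eq_inv_of_mul_eq_one_right e
      rwa [hinv] at this)
    obtain ⟨j, hj⟩ := htr x _ hx hne
    have hg : ∀ v : V, (τ ^ j) v = v * (τ ^ i) v := by
      intro v
      by_cases hv : v = 1
      · simp [hv]
      obtain ⟨k, rfl⟩ := htr x v hx hv
      rw [hcomm j k, hj, map_mul, hcomm i k]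
    have hswap : ∀ b : V, (τ ^ i) b = (τ ^ j) ((τ ^ j) b) := by
      intro b
      obtain ⟨b₁, hb₁⟩ := (τ ^ j).surjective b
      obtain ⟨b₂, hb₂⟩ := (τ ^ i).surjective b
      have h1 : b₁ = b * b₂ := heq _ _ fun a => by
        have e1 : f ((τ ^ j) a) b = f a b₁ := by rw [← hb₁, inv_pow_left hτ]
        have e2 : f ((τ ^ i) a) b = f a b₂ := by rw [← hb₂, inv_pow_left hτ]
        rw [← e1, hg, hl, e2, hr]
      calc (τ ^ i) b = (τ ^ i) ((τ ^ j) b₁) := by rw [hb₁]
        _ = (τ ^ j) ((τ ^ i) b) * (τ ^ j) ((τ ^ i) b₂) := by rw [h1, map_mul, map_mul, hcomm i j, hcomm i j]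
        _ = (τ ^ j) ((τ ^ j) b) := by rw [hb₂, ← map_mul, mul_comm, ← hg]
    have h3 := hswap x
    rw [hg x, hg (x * (τ ^ i) x), map_mul, mul_assoc x, ← mul_assoc ((τ ^ i) x) ((τ ^ i) x), hsq, one_mul] at h3
    calc (τ ^ i) ((τ ^ i) x) = x * (x * (τ ^ i) ((τ ^ i) x)) := by rw [← mul_assoc, hsq, one_mul]
      _ = x * (τ ^ i) x := by rw [← h3]
      _ = (τ ^ i) x * x := mul_comm _ _
  -- so there are at most two elements off `⟨x⟩`
  have hfour : ∀ y w : V, y ≠ 1 → y ≠ x → w ≠ 1 → w ≠ x → w = y ∨ w = x * y := by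
    intro y w hy hyx hw hwx
    by_contra hcon
    push Not at hcon
    obtain ⟨i, rfl⟩ := htr x y hx hy
    obtain ⟨l, rfl⟩ := htr x w hx hw
    set z := (τ ^ i) x * (τ ^ l) x with hz
    have hz1 : z ≠ 1 := fun e => hcon.1 (by
      have := eq_inv_of_mul_eq_one_right e
      rwa [hinv] at this)
    have hzx : z ≠ x := fun e => hcon.2 (by
      have h := congrArg ((τ ^ i) x * ·) (hz.symm.trans e)
      simp only [← mul_assoc, hsq, one_mul] at h
      rw [h, mul_comm])
    obtain ⟨k, hk⟩ := htr x z hx hz1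
    have hγ : ∀ v : V, (τ ^ k) v = (τ ^ i) v * (τ ^ l) v := by
      intro v
      by_cases hv : v = 1
      · simp [hv]
      obtain ⟨p, rfl⟩ := htr x v hx hv
      rw [hcomm k p, hk, hz, map_mul, hcomm i p, hcomm l p]
    have h1 := hkey k (by rw [hk]; exact hzx)
    rw [hk] at h1
    have h2 : (τ ^ k) z = z := by
      rw [hγ, hz, map_mul, map_mul, hkey i hyx, hkey l hwx, hcomm l i]
      rw [show (τ ^ i) x * x * (τ ^ i) ((τ ^ l) x) * ((τ ^ i) ((τ ^ l) x) * ((τ ^ l) x * x)) =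
        (τ ^ i) x * (x * x) * ((τ ^ i) ((τ ^ l) x) * (τ ^ i) ((τ ^ l) x)) * (τ ^ l) x by
        simp only [mul_assoc, mul_left_comm, mul_comm], hsq, hsq, mul_one, mul_one]
    exact hx (left_eq_mul.1 (h2.symm.trans h1))
  by_cases hV : ∃ y : V, y ≠ 1 ∧ y ≠ x
  swap
  · push Not at hV
    refine absurd ?_ hxy
    by_cases h : y₀ = 1
    · rw [h, hf0]
    · rw [hV y₀ h, hd]
  obtain ⟨y, hy, hyx⟩ := hV
  have hall : ∀ w : V, w = 1 ∨ w = x ∨ w = y ∨ w = x * y := by
    intro w
    by_cases h1 : w = 1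
    · exact Or.inl h1
    by_cases h2 : w = x
    · exact Or.inr (Or.inl h2)
    exact Or.inr (Or.inr (hfour y w hy hyx h1 h2))
  have hsym : f y x = f x y := by
    have h := hd (x * y)
    rw [hl, hr, hr, hd, hd, one_mul, mul_one] at h
    have h2 : f x y * f x y = 1 := by rw [← hr, hsq, hf0]
    exact mul_left_cancel (h.trans h2.symm)
  refine ⟨f x y, fun a b => ?_⟩
  rcases hall a with ha | ha | ha | ha <;> rcases hall b with hb | hb | hb | hb <;> subst ha <;> subst hb <;>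
    simp only [hl, hr, hf0, hf0', hd, hsym, one_mul, mul_one, true_or, or_true] <;>
    exact Or.inl (by rw [← hr, hsq, hf0])

end CfsgLib.Gold.U3Sylow
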