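import Cfsg.Agent.Lib.Goldschmidt.Consumers.U3Sylow.Comp
import Cfsg.Agent.Lib.Coprime.PConstrained
import Cfsg.Agent.Lib.PGroup.PSolvable
import Cfsg.Prelude.Def_CaseTheorems

/-!
# Sylow `2`-subgroups of the type of `PSU₃(2^n)` (S3177)

Given Goldschmidt's theorem: modulo the odd core either the Sylow subgroup is normal, or a normal subgroup of
odd index is `PSU₃(2^n)`.
-/

set_option autoImplicit false
set_option linter.style.haveILetI false

namespace CfsgLib.Gold.U3Sylow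

open Subgroup
open scoped commutatorElement

universe u v

namespace SData

variable {X : Type u} [Group X] [Finite X] {q : ℕ} {S : Sylow 2 X} {Z : Subgroup X}

/-- Without components the Sylow subgroup is normal. -/
theorem normal_of_layer (h : SData q S Z) (hO : Cfsg.pPrimeCore 2 X = ⊥) (hE : Cfsg.layer X = ⊥) :
    (S : Subgroup X).Normal := by
  haveI := Fact.mk Nat.prime_two
  have hC := (CfsgLib.Coprime.layer_eq_bot_iff_centralizer_pCore_le hO).1 hE
  haveI : (Cfsg.pCore 2 X).Normal := CfsgLib.Coprime.pCore_normal' 2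
  have hQS : Cfsg.pCore 2 X ≤ (S : Subgroup X) := CfsgLib.Coprime.pCore_le_sylow S
  set Q := Cfsg.pCore 2 X with hQ
  obtain ⟨x, hx, hxZ⟩ : ∃ x ∈ Q, x ∉ Z := by
    by_contra hc
    push Not at hc
    obtain ⟨y, hy, hyZ⟩ := h.exists_notMem
    exact hyZ (hc y (hC (mem_centralizer_iff.2 fun w hw => h.central w (hc w hw) y hy)))
  have hZQ : Z ≤ Q := fun v hv => by
    obtain ⟨t, ht, rfl⟩ := h.span x (hQS hx) hxZ v hv
    rw [show ⁅x, t⁆ = x * (t * x⁻¹ * t⁻¹) by rw [commutatorElement_def]; group]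
    exact mul_mem hx ((inferInstance : Q.Normal).conj_mem _ (inv_mem hx) t)
  have hZn : ∀ v ∈ Z, ∀ g : X, g * v * g⁻¹ ∈ Z := fun v hv g =>
    h.closed.2 v hv g (hQS ((inferInstance : Q.Normal).conj_mem _ (hZQ hv) g))
  let K : Subgroup X :=
    { carrier := {c | (∀ v ∈ Z, c * v * c⁻¹ = v) ∧ ∀ y ∈ Q, ⁅c, y⁆ ∈ Z}
      one_mem' := ⟨fun v _ => by group, fun y _ => by rw [commutatorElement_one_left]; exact one_mem Z⟩
      mul_mem' := fun {a b} ha hb => ⟨fun v hv => by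
          rw [show a * b * v * (a * b)⁻¹ = a * (b * v * b⁻¹) * a⁻¹ by group, hb.1 v hv, ha.1 v hv],
        fun y hy => by
          rw [show ⁅a * b, y⁆ = a * ⁅b, y⁆ * a⁻¹ * ⁅a, y⁆ by simp only [commutatorElement_def]; group]
          exact mul_mem (hZn _ (hb.2 y hy) a) (ha.2 y hy)⟩
      inv_mem' := fun {a} ha => ⟨fun v hv => by
          conv_lhs => rw [← ha.1 v hv]
          group,
        fun y hy => by
          rw [show ⁅a⁻¹, y⁆ = a⁻¹ * ⁅a, y⁆⁻¹ * a⁻¹⁻¹ by simp only [commutatorElement_def]; group]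
          exact hZn _ (inv_mem (ha.2 y hy)) a⁻¹⟩ }
  have hKn : K.Normal := ⟨fun c hc g => ⟨fun v hv => by
      have h1 := hc.1 _ (hZn v hv g⁻¹)
      calc g * c * g⁻¹ * v * (g * c * g⁻¹)⁻¹ = g * (c * (g⁻¹ * v * g⁻¹⁻¹) * c⁻¹) * g⁻¹ := by group
        _ = v := by rw [h1]; group,
    fun y hy => by
      rw [show ⁅g * c * g⁻¹, y⁆ = g * ⁅c, g⁻¹ * y * g⁻¹⁻¹⁆ * g⁻¹ by simp only [commutatorElement_def]; group]
      exact hZn _ (hc.2 _ ((inferInstance : Q.Normal).conj_mem _ hy g⁻¹)) g⟩⟩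
  have hSK : (S : Subgroup X) ≤ K := fun s hs =>
    ⟨fun v hv => by rw [← h.central v hv s hs, mul_inv_cancel_right], fun y hy => h.derived s hs y (hQS hy)⟩
  have hK2 : IsPGroup 2 K := by
    intro c
    have h1 : (c : X) * c ∈ Q := hC (mem_centralizer_iff.2 fun y hy => by
      set z := ⁅(c : X), y⁆ with hz
      have hzZ : z ∈ Z := c.2.2 y hy
      have e1 : (c : X) * y * (c : X)⁻¹ = z * y := by rw [hz, commutatorElement_def]; group
      have e2 : (c : X) * c * y * ((c : X) * c)⁻¹ = y := by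
        calc (c : X) * c * y * ((c : X) * c)⁻¹ = (c : X) * ((c : X) * y * (c : X)⁻¹) * (c : X)⁻¹ := by group
          _ = (c : X) * (z * y) * (c : X)⁻¹ := by rw [e1]
          _ = ((c : X) * z * (c : X)⁻¹) * ((c : X) * y * (c : X)⁻¹) := by group
          _ = z * z * y := by rw [c.2.1 z hzZ, e1, mul_assoc]
          _ = y := by rw [h.sq_one hzZ, one_mul]
      exact (mul_inv_eq_iff_eq_mul.1 e2).symm)
    obtain ⟨k, hk⟩ := CfsgLib.Coprime.pCore_isPGroup (G := X) 2 ⟨_, h1⟩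
    refine ⟨k + 1, Subtype.ext ?_⟩
    rw [pow_succ', pow_mul, Subgroup.coe_pow, Subgroup.coe_pow, sq]
    exact congrArg Subtype.val hk
  rw [← S.3 hK2 hSK]
  exact hKn

/-- The Sylow subgroup is normal, or a normal subgroup of odd index is `PSU₃(q)`. -/
theorem dichotomy (h : SData q S Z) (hO : Cfsg.pPrimeCore 2 X = ⊥) (hI : Struct.SimpleForm.{u}) :
    (S : Subgroup X).Normal ∨ ∃ N : Subgroup X, N.Normal ∧ Odd N.index ∧
      ∃ (F : Type) (_ : Field F) (_ : Fintype F), Fintype.card F = q ^ 2 ∧ Nonempty (N ≃* Cfsg.PSU 3 F q) := by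
  by_cases hc : ∃ L : Subgroup X, Cfsg.IsComponent L
  · obtain ⟨L, hL⟩ := hc
    exact Or.inr ⟨L, h.component_main hO hI hL⟩
  · exact Or.inl (h.normal_of_layer hO (le_bot_iff.1 (sSup_le fun K hK => absurd ⟨K, hK⟩ hc)))

end SData

theorem iso_change {N : Type u} [Group N] {F : Type v} [Field F] [Fintype F] {F₀ : Type} [Field F₀] [Fintype F₀]
    {q : ℕ} (e : Fintype.card F₀ = Fintype.card F) (h : Nonempty (N ≃* Cfsg.PSU 3 F₀ q)) :
    Nonempty (N ≃* Cfsg.PSU 3 F q) := by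
  obtain ⟨f⟩ := h
  obtain ⟨g⟩ := CfsgLib.SU.CentThree.psu_field_congr 3 q (FiniteField.ringEquivOfCardEq e)
  exact ⟨f.trans g⟩

theorem index_odd_of_sylow {G : Type u} [Group G] [Finite G] (S : Sylow 2 G) [(S : Subgroup G).Normal] :
    Odd (S : Subgroup G).index := by
  haveI := Fact.mk Nat.prime_two
  exact Nat.odd_iff.2 (Nat.two_dvd_ne_zero.1 S.not_dvd_index)

/-- S3177's statement, given Goldschmidt's theorem. -/
theorem S3177_of
    (hgold : ∀ (X : Type u) [Group X] [Finite X] [IsSimpleGroup X] (S : Sylow 2 X) (A : Subgroup X), A ≠ ⊥ →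
      IsMulCommutative A → Cfsg.IsStronglyClosed A (S : Subgroup X) →
        IsMulCommutative (S : Subgroup X) ∨ ∃ H : Subgroup X, Cfsg.IsStronglyEmbedded H)
    {G : Type u} [Group G] [Finite G] (n : ℕ) (hn : 2 ≤ n) {F : Type v} [Field F] [Fintype F]
    (hF : Fintype.card F = 4 ^ n) (S : Sylow 2 G) (P : Sylow 2 (Cfsg.PSU 3 F (2 ^ n)))
    (hS : Nonempty (↥(S : Subgroup G) ≃* ↥(P : Subgroup (Cfsg.PSU 3 F (2 ^ n))))) :
    (Group.IsSolvable G ∧ Cfsg.PLengthLE 2 1 G) ∨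
      ∃ N : Subgroup (G ⧸ Cfsg.oddCore G), N.Normal ∧ Odd N.index ∧ Nonempty (↥N ≃* Cfsg.PSU 3 F (2 ^ n)) := by
  haveI := Fact.mk Nat.prime_two
  obtain ⟨e⟩ := hS
  set π := QuotientGroup.mk' (Cfsg.oddCore G) with hπ
  have hπs : Function.Surjective π := QuotientGroup.mk'_surjective _
  let S' : Sylow 2 (G ⧸ Cfsg.oddCore G) := S.mapSurjective hπs
  have hS' : (S' : Subgroup (G ⧸ Cfsg.oddCore G)) = (S : Subgroup G).map π := Sylow.coe_mapSurjective hπs S
  have hodd : (Nat.card (Cfsg.oddCore G)).Coprime 2 := CfsgLib.Coprime.pPrimeCore_coprime Nat.prime_two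
  have hinj : Function.Injective (π.comp (S : Subgroup G).subtype) := (injective_iff_map_eq_one _).2 fun s hs => by
    have h1 : (s : G) ∈ Cfsg.oddCore G := (QuotientGroup.eq_one_iff _).1 hs
    obtain ⟨k, hk⟩ := S.2 s
    refine orderOf_eq_one_iff.1 (Nat.eq_one_of_dvd_coprimes (hodd.pow_right k) ?_ (orderOf_dvd_of_pow_eq_one hk))
    rw [← Subgroup.orderOf_coe]
    exact Subgroup.orderOf_dvd_natCard _ h1
  let e' : (S : Subgroup G) ≃* (S' : Subgroup (G ⧸ Cfsg.oddCore G)) :=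
    (MonoidHom.ofInjective hinj).trans
      (MulEquiv.subgroupCongr (by rw [MonoidHom.range_comp, range_subtype, hS']))
  have hF' : Fintype.card F = (2 ^ n) ^ 2 := by rw [hF, ← pow_mul, mul_comm, pow_mul]; norm_num
  obtain ⟨Z, hD⟩ := exists_data hn hF' S' P (e'.symm.trans e)
  have hO : Cfsg.pPrimeCore 2 (G ⧸ Cfsg.oddCore G) = ⊥ :=
    CfsgLib.Coprime.pPrimeCore_quotient_eq_bot Nat.prime_two
  rcases hD.dichotomy hO (Struct.simpleForm_of hgold) with hN | ⟨N, hNn, hNi, F₀, iF, iF', hF₀, hiso⟩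
  · haveI := hN
    refine Or.inl ⟨?_, CfsgLib.PGroup.pLengthLE_one_of_not_dvd fun hd => ?_⟩
    · haveI : Group.IsNilpotent (S' : Subgroup (G ⧸ Cfsg.oddCore G)) := S'.2.isNilpotent
      haveI := CfsgLib.FT.isSolvable_of_odd ((G ⧸ Cfsg.oddCore G) ⧸ (S' : Subgroup (G ⧸ Cfsg.oddCore G)))
        (by rw [← index_eq_card]; exact index_odd_of_sylow S')
      haveI : Group.IsSolvable (G ⧸ Cfsg.oddCore G) :=
        Group.isSolvable_of_ker_le_range (S' : Subgroup (G ⧸ Cfsg.oddCore G)).subtype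
          (QuotientGroup.mk' (S' : Subgroup (G ⧸ Cfsg.oddCore G))) (by simp)
      haveI := CfsgLib.FT.isSolvable_of_odd (Cfsg.oddCore G) (Nat.coprime_two_right.1 hodd)
      exact Group.isSolvable_of_ker_le_range (Cfsg.oddCore G).subtype π (by simp [hπ])
    · refine S'.not_dvd_index (hd.trans (index_dvd_of_le ?_))
      exact CfsgLib.Coprime.le_pCore_of_isSubnormal (Normal.isSubnormal hN) S'.2
  · exact Or.inr ⟨N, hNn, hNi, iso_change (hF₀.trans hF'.symm) hiso⟩

end CfsgLib.Gold.U3Sylow
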