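import Cfsg.Agent.Lib.Goldschmidt.Consumers.U3Sylow.Invariant
import Cfsg.Agent.Lib.Goldschmidt.Consumers.U3Sylow.Data
import Cfsg.Agent.Lib.Goldschmidt.Consumers.Structure.Inputs
import Cfsg.Agent.Lib.SU.InvolCentThree.Models

/-!
# The orders in the simple groups of rank one, and the derived group of a cover with abelian Sylow subgroup
-/

set_option autoImplicit false
set_option linter.style.haveILetI false

namespace CfsgLib.Gold.U3Sylow

open Subgroup
open scoped commutatorElement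

universe u

theorem card_map_mul {G H : Type*} [Group G] [Group H] (f : G →* H) (A : Subgroup G)
    (hA : f.ker ≤ A) : Nat.card (A.map f) * Nat.card f.ker = Nat.card A := by
  have h1 := card_mul_index ((f.comp A.subtype).ker)
  rw [index_ker, MonoidHom.range_comp, range_subtype] at h1
  have h2 : Nat.card ((f.comp A.subtype).ker) = Nat.card f.ker := by
    have e : ((f.comp A.subtype).ker).map A.subtype = f.ker := by
      ext x
      refine ⟨?_, fun hx => ⟨⟨x, hA hx⟩, hx, rfl⟩⟩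
      rintro ⟨y, hy, rfl⟩
      exact hy
    rw [← e, card_map_of_injective A.subtype_injective]
  rw [← h2, mul_comm, h1]

theorem mem_sylow_of_centralizes {H : Type*} [Group H] [Finite H] {p : ℕ} [Fact p.Prime] (Q : Sylow p H) {g : H}
    {k : ℕ} (hg : g ^ p ^ k = 1) (hc : ∀ r ∈ (Q : Subgroup H), g * r * g⁻¹ = r) : g ∈ (Q : Subgroup H) := by
  have hn : g ∈ normalizer ((Q : Subgroup H) : Set H) := mem_normalizer_fintype fun r hr => (hc r hr).symm ▸ hr
  have hle : (Q : Subgroup H) ⊔ zpowers g = Q := Q.3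
    (Q.2.to_sup_of_normal_left' (CfsgLib.Coprime.isPGroup_zpowers hg) (zpowers_le.2 hn)) le_sup_left
  exact hle ▸ mem_sup_right (mem_zpowers g)

/-- In a cover of a simple group with elementary abelian Sylow subgroup the commutators of the Sylow subgroup
take at most two values. -/
theorem derived_le {L : Type u} [Group L] [Finite L] (hs : IsSimpleGroup (L ⧸ center L))
    (hna : ¬ IsMulCommutative (L ⧸ center L)) (T : Sylow 2 L)
    (hsq : ∀ t ∈ (T : Subgroup L), t * t ∈ center L)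
    (hcomm : ∀ a ∈ (T : Subgroup L), ∀ b ∈ (T : Subgroup L), ⁅a, b⁆ ∈ center L) :
    ∃ z : L, z * z = 1 ∧ ⁅(T : Subgroup L), (T : Subgroup L)⁆ ≤ zpowers z := by
  classical
  haveI := Fact.mk Nat.prime_two
  haveI := hs
  set q := QuotientGroup.mk' (center L)
  have hqs : Function.Surjective q := QuotientGroup.mk'_surjective _
  set Tq := T.mapSurjective hqs
  have hTq : (Tq : Subgroup (L ⧸ center L)) = (T : Subgroup L).map q := Sylow.coe_mapSurjective hqs T
  have hsqT : ∀ x ∈ (Tq : Subgroup (L ⧸ center L)), x * x = 1 := by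
    intro x hx
    rw [hTq] at hx
    obtain ⟨t, ht, rfl⟩ := hx
    rw [← map_mul]
    exact (QuotientGroup.eq_one_iff _).2 (hsq t ht)
  have hsqV : ∀ v : (Tq : Subgroup (L ⧸ center L)), v * v = 1 := fun v => Subtype.ext (hsqT v v.2)
  letI cV : CommGroup (Tq : Subgroup (L ⧸ center L)) :=
    { (inferInstance : Group (Tq : Subgroup (L ⧸ center L))) with
      mul_comm := fun a b => by
        have h1 := hsqV (a * b)
        rw [mul_eq_one_iff_eq_inv, mul_inv_rev, inv_eq_of_mul_eq_one_right (hsqV a),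
          inv_eq_of_mul_eq_one_right (hsqV b)] at h1
        exact h1 }
  letI cM : CommGroup (center L) :=
    { (inferInstance : Group (center L)) with
      mul_comm := fun a b => Subtype.ext (mem_center_iff.1 a.2 b).symm }
  have hc : CfsgLib.Walter.CentForm (L ⧸ center L) := CfsgLib.Walter.classified _ hs hna fun R a b => by
    let e := Sylow.equiv R Tq
    exact e.injective (by rw [map_mul, map_mul]; exact mul_comm (e a) (e b))
  obtain ⟨-, -, k, hk, htr⟩ := RankOne.omega_facts hs (Or.inl hc) Tq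
  have hlift : ∀ v : (Tq : Subgroup (L ⧸ center L)), ∃ a, a ∈ (T : Subgroup L) ∧ q a = v := fun v => hTq.le v.2
  choose l hlT hlq using hlift
  let f : ↥(Tq : Subgroup (L ⧸ center L)) → ↥(Tq : Subgroup (L ⧸ center L)) → center L :=
    fun u v => ⟨⁅l u, l v⁆, hcomm _ (hlT u) _ (hlT v)⟩
  -- commutators only depend on the classes
  have hcl : ∀ {a a' b b' : L}, q a = q a' → q b = q b' → ⁅a, b⁆ = ⁅a', b'⁆ := by
    intro a a' b b' ha hb
    have hz : a⁻¹ * a' ∈ center L := QuotientGroup.eq.1 ha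
    have hw : b⁻¹ * b' ∈ center L := QuotientGroup.eq.1 hb
    obtain ⟨z, rfl⟩ : ∃ z, a * z = a' := ⟨a⁻¹ * a', mul_inv_cancel_left a a'⟩
    obtain ⟨w, rfl⟩ : ∃ w, b * w = b' := ⟨b⁻¹ * b', mul_inv_cancel_left b b'⟩
    rw [inv_mul_cancel_left] at hz hw
    have c1 : ∀ y, z * y = y * z := fun y => (mem_center_iff.1 hz y).symm
    have c2 : ∀ y, w * y = y * w := fun y => (mem_center_iff.1 hw y).symm
    symm
    calc ⁅a * z, b * w⁆ = a * (z * (b * w)) * z⁻¹ * a⁻¹ * (w⁻¹ * b⁻¹) := by rw [commutatorElement_def]; group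
      _ = a * (b * w) * a⁻¹ * (w⁻¹ * b⁻¹) := by rw [c1]; group
      _ = a * (b * (w * a⁻¹)) * (w⁻¹ * b⁻¹) := by group
      _ = ⁅a, b⁆ := by rw [c2, commutatorElement_def]; group
  have hl : ∀ a b c, f (a * b) c = f a c * f b c := fun a b c => Subtype.ext (by
    show ⁅l (a * b), l c⁆ = ⁅l a, l c⁆ * ⁅l b, l c⁆
    rw [hcl (show q (l (a * b)) = q (l a * l b) by rw [map_mul, hlq, hlq, hlq]; rfl) (rfl : q (l c) = q (l c))]
    have hz := hcomm _ (hlT b) _ (hlT c)
    calc ⁅l a * l b, l c⁆ = l a * ⁅l b, l c⁆ * (l c * (l a)⁻¹ * (l c)⁻¹) := by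
          simp only [commutatorElement_def]; group
      _ = ⁅l b, l c⁆ * ⁅l a, l c⁆ := by rw [mem_center_iff.1 hz]; simp only [commutatorElement_def]; group
      _ = _ := (mem_center_iff.1 hz _).symm)
  have hr : ∀ a b c, f a (b * c) = f a b * f a c := fun a b c => Subtype.ext (by
    show ⁅l a, l (b * c)⁆ = ⁅l a, l b⁆ * ⁅l a, l c⁆
    rw [hcl (rfl : q (l a) = q (l a)) (show q (l (b * c)) = q (l b * l c) by rw [map_mul, hlq, hlq, hlq]; rfl)]
    have hz := hcomm _ (hlT a) _ (hlT c)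
    calc ⁅l a, l b * l c⁆ = ⁅l a, l b⁆ * (l b * ⁅l a, l c⁆ * (l b)⁻¹) := by
          simp only [commutatorElement_def]; group
      _ = _ := by rw [mem_center_iff.1 hz, mul_inv_cancel_right])
  have hd : ∀ a, f a a = 1 := fun a => Subtype.ext (commutatorElement_self _)
  -- the torus
  have hkT := mem_normalizer_iff.1 hk
  let τ : MulAut (Tq : Subgroup (L ⧸ center L)) :=
    { toFun := fun v => ⟨k * v * k⁻¹, (hkT v).1 v.2⟩
      invFun := fun v => ⟨k⁻¹ * v * k, (hkT _).2 (by
        rw [show k * (k⁻¹ * (v : L ⧸ center L) * k) * k⁻¹ = v by group]; exact v.2)⟩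
      left_inv := fun v => Subtype.ext (by group)
      right_inv := fun v => Subtype.ext (by group)
      map_mul' := fun a b => Subtype.ext (by simp only [Subgroup.coe_mul]; group) }
  have hτi : ∀ (i : ℕ) (v : (Tq : Subgroup (L ⧸ center L))),
      ((τ ^ i) v : L ⧸ center L) = k ^ i * v * (k ^ i)⁻¹ := by
    intro i
    induction i with
    | zero => intro v; simp
    | succ i ih =>
      intro v
      rw [pow_succ', MulAut.mul_apply]
      show k * ((τ ^ i) v : L ⧸ center L) * k⁻¹ = _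
      rw [ih, pow_succ']
      group
  have hτ : ∀ a b, f (τ a) (τ b) = f a b := by
    intro a b
    obtain ⟨n, hn⟩ := hqs k
    refine Subtype.ext ?_
    show ⁅l (τ a), l (τ b)⁆ = ⁅l a, l b⁆
    have e : ∀ v : (Tq : Subgroup (L ⧸ center L)), q (l (τ v)) = q (n * l v * n⁻¹) := fun v => by
      rw [hlq, map_mul, map_mul, map_inv, hn, hlq]; rfl
    rw [hcl (e a) (e b), ← conjugate_commutatorElement, mem_center_iff.1 (hcomm _ (hlT a) _ (hlT b)),
      mul_inv_cancel_right]
  have htr' : ∀ a b : (Tq : Subgroup (L ⧸ center L)), a ≠ 1 → b ≠ 1 → ∃ i : ℕ, (τ ^ i) a = b := fun a b ha hb => by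
    obtain ⟨i, hi⟩ := htr a a.2 (hsqT a a.2) (fun e => ha (Subtype.ext e)) b b.2 (hsqT b b.2)
      (fun e => hb (Subtype.ext e))
    exact ⟨i, Subtype.ext ((hτi i a).trans hi)⟩
  obtain ⟨z, hz⟩ := two_values hl hr hd hsqV hτ htr'
  have hof : ∀ a ∈ (T : Subgroup L), ∀ b ∈ (T : Subgroup L), ∃ u v, (f u v : L) = ⁅a, b⁆ := fun a ha b hb =>
    ⟨⟨q a, hTq.ge (mem_map_of_mem q ha)⟩, ⟨q b, hTq.ge (mem_map_of_mem q hb)⟩, hcl (hlq _) (hlq _)⟩
  by_cases htriv : ∀ u v, f u v = 1
  · refine ⟨1, one_mul 1, commutator_le.2 fun a ha b hb => ?_⟩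
    obtain ⟨u, v, e⟩ := hof a ha b hb
    rw [← e, htriv]
    exact one_mem _
  push Not at htriv
  obtain ⟨u₀, v₀, h0⟩ := htriv
  have hz0 := (hz u₀ v₀).resolve_left h0
  refine ⟨z, ?_, commutator_le.2 fun a ha b hb => ?_⟩
  · have h1 : f u₀ v₀ * f u₀ v₀ = 1 := by
      rw [← hr, hsqV]
      have h2 := hr u₀ 1 1
      rwa [mul_one, left_eq_mul] at h2
    rw [hz0] at h1
    exact congrArg Subtype.val h1
  · obtain ⟨u, v, e⟩ := hof a ha b hb
    rw [← e]
    rcases hz u v with h | h <;> rw [h]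
    · exact one_mem _
    · exact mem_zpowers _

/-- A rank one group whose Sylow subgroup has order `q²` times its number of elements of order at most two, at
most `q`, is `PSU₃(q)`. -/
theorem iso_psu_of_card {K : Type u} [Group K] [Finite K] (hi : IsoFamilies K) (R : Sylow 2 K)
    (hnab : ¬ IsMulCommutative (R : Subgroup K)) {q : ℕ} (hq : 2 ≤ q) (Zq : Subgroup K)
    (hmem : ∀ x, x ∈ Zq ↔ x ∈ (R : Subgroup K) ∧ x * x = 1) (hle : Nat.card Zq ≤ q)
    (hcard : Nat.card (R : Subgroup K) = q ^ 2 * Nat.card Zq) :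
    ∃ (F : Type) (_ : Field F) (_ : Fintype F), Fintype.card F = q ^ 2 ∧ Nat.card Zq = q ∧
      Nonempty (K ≃* Cfsg.PSU 3 F q) := by
  haveI : Fact (Nat.Prime 2) := ⟨Nat.prime_two⟩
  rcases hi with ⟨F, iF, iF', ⟨n, hn, hc⟩, ⟨f⟩⟩ | ⟨F, iF, iF', m, hm, hc, ⟨f⟩⟩ | ⟨F, iF, iF', n, hn, hc, ⟨f⟩⟩
  · exfalso
    refine hnab ⟨⟨fun a b => Subtype.ext (f.injective ?_)⟩⟩
    show f ((a : K) * b) = f ((b : K) * a)
    rw [map_mul, map_mul]
    exact CfsgLib.SU.CentThree.psl_two_sylow_comm hc (by omega)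
      (R.mapSurjective (f := f.toMonoidHom) f.surjective) _ ⟨a, a.2, rfl⟩ _ ⟨b, b.2, rfl⟩
  · exfalso
    haveI : CharP F 2 := charP_of_card_eq_prime_pow (f := 2 * m + 1) hc
    obtain ⟨e0⟩ := CfsgLib.Lie.Suz.exists_twEquiv (F := F) hm hc
    obtain ⟨P, hP⟩ := CfsgLib.Fusion.FrakL.exists_sylow_U hm hc
    obtain ⟨c, hc'⟩ := MulAction.exists_smul_eq (Cfsg.Sz F m)
      (R.mapSurjective (f := (f.trans e0.symm).toMonoidHom) (f.trans e0.symm).surjective) P
    let e : K ≃* Cfsg.Sz F m := (f.trans e0.symm).trans (MulAut.conj c)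
    have hU : CfsgLib.Lie.Suz.U hc = (R : Subgroup K).map e.toMonoidHom := by
      rw [← hP, ← hc', Sylow.coe_subgroup_smul]
      show ((R : Subgroup K).map (f.trans e0.symm).toMonoidHom).map (MulAut.conj c).toMonoidHom = _
      rw [Subgroup.map_map]
      rfl
    have h1 : Nat.card (R : Subgroup K) = Fintype.card F ^ 2 := by
      rw [← card_map_of_injective (K := (R : Subgroup K)) (f := e.toMonoidHom) e.injective, ← hU,
        CfsgLib.Lie.Suz.card_U]
    have h2 : Fintype.card F ≤ Nat.card Zq := by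
      rw [← card_map_of_injective (K := Zq) (f := e.toMonoidHom) e.injective, ← Nat.card_eq_fintype_card]
      refine Nat.card_le_card_of_injective (fun b => (⟨CfsgLib.Lie.Suz.TS hc 0 b, ?_⟩ : Zq.map e.toMonoidHom))
        fun b b' h => (CfsgLib.Lie.Suz.TS_inj hc (congrArg Subtype.val h)).2
      have hmem' := CfsgLib.Lie.Suz.TS_mem_U hc (0 : F) b
      rw [hU] at hmem'
      obtain ⟨x, hx, hxe⟩ := hmem'
      refine ⟨x, (hmem x).2 ⟨hx, e.injective ?_⟩, hxe⟩
      rw [map_mul, map_one, show e x = _ from hxe, CfsgLib.Lie.Suz.TS_sq', mul_zero,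
        CfsgLib.Lie.Suz.TS_zero']
    have h3 : q ^ 2 * Fintype.card F ≤ Fintype.card F * Fintype.card F := by
      rw [← sq (Fintype.card F), ← h1, hcard]
      exact Nat.mul_le_mul_left _ h2
    have h4 := Nat.le_of_mul_le_mul_right h3 Fintype.card_pos
    nlinarith
  · haveI : CharP F 2 := charP_of_card_eq_prime_pow (f := n * 2) (by rw [hc, ← pow_mul])
    obtain ⟨U, -⟩ := CfsgLib.SU.unital_sylow_psu (n := n) (by omega) hc
      (R.mapSurjective (f := f.toMonoidHom) f.surjective)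
    let V := U.congr (f.subgroupMap (R : Subgroup K))
    have hc' : Nat.card F = (2 ^ n) ^ 2 := by rw [Nat.card_eq_fintype_card, hc]
    have h1 : Nat.card (R : Subgroup K) = (2 ^ n) ^ 3 := V.card_eq hc'
    have h2 : Nat.card Zq = 2 ^ n := by
      rw [← V.card_center_eq hc', ← card_map_of_injective (K := center (R : Subgroup K))
        (R : Subgroup K).subtype_injective]
      congr 1
      have e : Zq = (center (R : Subgroup K)).map (R : Subgroup K).subtype := by
        ext x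
        rw [hmem]
        constructor
        · rintro ⟨hx, hxx⟩
          exact ⟨⟨x, hx⟩, V.mem_center_iff.2 (V.mul_self_eq_one_iff.1 (Subtype.ext hxx)), rfl⟩
        · rintro ⟨y, hy, rfl⟩
          exact ⟨y.2, congrArg Subtype.val (V.mul_self_eq_one_iff.2 (V.mem_center_iff.1 hy))⟩
      rw [e]
    have h3 : q = 2 ^ n := by
      have h4 : q ^ 2 * 2 ^ n = (2 ^ n) ^ 2 * 2 ^ n := by
        rw [← h2, ← hcard, h1, h2]; ring
      exact Nat.pow_left_injective two_ne_zero (Nat.eq_of_mul_eq_mul_right (by positivity) h4)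
    subst h3
    exact ⟨F, iF, iF', hc, h2, ⟨f⟩⟩

end CfsgLib.Gold.U3Sylow
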